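import Groth.Agent.L16.QCohSections
import Groth.Agent.L08.Cube.Inverse
import Groth.Agent.L21.Extend.Semilocal
import Groth.Agent.L18.AmplePull
import Groth.Agent.L15.PicSurj
import Groth.Agent.L12.CurveFam.FibVA.Sections
import Mathlib.RingTheory.Localization.Integer
import Mathlib.RingTheory.PicardGroup

/-!
# Invertible modules on affine schemes: invertibility of the sections, spreading of trivialisations
-/

set_option autoImplicit false
set_option linter.style.haveILetI false
set_option backward.isDefEq.respectTransparency false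
set_option backward.isDefEq.respectTransparency.types false

universe u

open CategoryTheory AlgebraicGeometry TopologicalSpace Opposite
open Groth.L18.Frame (rs ro rs_rs rs_self rs_smul ro_ro ro_self ro_mul IsFrame pull pull_rs pull_smul)
open Groth.L18.GenLoc (tens tens_rs tens_smul_left tens_smul_right isFrame_tens)

noncomputable section

namespace Groth.L06.PicHomotopy

variable {X Y : Scheme.{u}}

/-- A global frame pulls back to a global frame. -/
theorem isFrame_pull_top (g : Y ⟶ X) {M : X.Modules} {e : Γ(M, ⊤)} (he : IsFrame M ⊤ e) :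
    IsFrame ((Scheme.Modules.pullback g).obj M) ⊤ (pull g M ⊤ e) :=
  Groth.L18.Frame.IsFrame.pullback g M he

/-- Near every point of an affine scheme some global section is a frame. -/
theorem exists_globalFrame [IsAffine X] {L : X.Modules} (hL : PicF.IsInvertible L) (x : X) :
    ∃ (t : Γ(L, ⊤)) (O : X.Opens), x ∈ O ∧ IsFrame L O (rs L le_top t) := by
  haveI := Groth.L21.Extend.isQCoh_of_isInvertible hL
  obtain ⟨W, e, hxW, he⟩ := Groth.L18.Frame.exists_frame hL x
  obtain ⟨a, haW, hxa⟩ := (isAffineOpen_top X).exists_basicOpen_le (⟨x, hxW⟩ : W) trivial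
  obtain ⟨n, t, ht⟩ := Groth.L16.QCohSect.exists_pow_smul_eq_res (isAffineOpen_top X) L a (rs L haW e)
  refine ⟨t, X.basicOpen a, hxa, ?_⟩
  rw [show rs L (le_top : X.basicOpen a ≤ ⊤) t = _ from ht]
  refine (he.mono haW).smul_unit ?_
  rw [ro, map_pow]
  exact (RingedSpace.isUnit_res_basicOpen X.toRingedSpace a).pow n

/-- A section with invertible coefficient at a point is a frame nearby. -/
theorem exists_frame_of_isUnit_germ {L : X.Modules} {W : X.Opens} {e : Γ(L, W)} (he : IsFrame L W e)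
    {m : Γ(L, ⊤)} {a : Γ(X, W)} (ha : a • e = rs L le_top m) {x : X} (hx : x ∈ X.basicOpen a) :
    ∃ O : X.Opens, x ∈ O ∧ IsFrame L O (rs L le_top m) := by
  refine ⟨X.basicOpen a, hx, ?_⟩
  have h := (he.mono (X.basicOpen_le a)).smul_unit (RingedSpace.isUnit_res_basicOpen X.toRingedSpace a)
  change IsFrame L (X.basicOpen a) (ro (X.basicOpen_le a) a • rs L (X.basicOpen_le a) e) at h
  rwa [← rs_smul, ha, rs_rs] at h

/-- A global frame from a generator of the sections on an affine scheme. -/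
theorem isFrame_of_generates [IsAffine X] {L : X.Modules} (hL : PicF.IsInvertible L) {m : Γ(L, ⊤)}
    (hm : ∀ t : Γ(L, ⊤), ∃ c : Γ(X, ⊤), c • m = t) : IsFrame L ⊤ m := by
  have hloc : ∀ x : X, ∃ O : X.Opens, x ∈ O ∧ IsFrame L O (rs L le_top m) := fun x => by
    obtain ⟨t, O, hxO, hO⟩ := exists_globalFrame hL x
    obtain ⟨c, hc⟩ := hm t
    obtain ⟨a, ha⟩ := hO.exists_coeff le_rfl (rs L le_top m)
    rw [rs_self] at ha
    have h1 : ro le_top c * a = 1 := by
      refine hO.inj le_rfl ?_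
      rw [rs_self, one_smul, mul_smul, ha, ← rs_smul, hc]
    refine exists_frame_of_isUnit_germ hO ha ((X.mem_basicOpen a x hxO).2 ?_)
    exact (IsUnit.of_mul_eq_one (a := a) (ro le_top c) (by rw [mul_comm]; exact h1)).map _
  choose O hxO hO using hloc
  refine Groth.L18.Frame.IsFrame.of_cover O (fun _ => le_top) (fun x _ => Opens.mem_iSup.2 ⟨x, hxO x⟩) hO

/-- The sections of an invertible module on an affine scheme form an invertible module. -/
theorem invertible_sections [IsAffine X] {L : X.Modules} (hL : PicF.IsInvertible L) :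
    Module.Invertible Γ(X, ⊤) Γ(L, ⊤) := by
  classical
  obtain ⟨N, hN, ⟨ε⟩⟩ := Groth.L08.Cube.exists_inverse hL
  let F (U : X.Opens) (s : Γ(L, U)) (t : Γ(N, U)) : Γ(X, U) := ε.hom.app U (tens L N U s t)
  have hFl : ∀ (U : X.Opens) (r : Γ(X, U)) (s : Γ(L, U)) (t : Γ(N, U)), F U (r • s) t = r * F U s t :=
    fun U r s t => by
      show ε.hom.app U (tens L N U (r • s) t) = _
      rw [tens_smul_left]
      exact ε.hom.app_smul r _
  have hFr : ∀ (U V : X.Opens) (h : V ≤ U) (s : Γ(L, U)) (t : Γ(N, U)),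
      ro h (F U s t) = F V (rs L h s) (rs N h t) := fun U V h s t => by
    show _ = ε.hom.app V (tens L N V (rs L h s) (rs N h t))
    rw [← tens_rs]
    exact (congr($(ε.hom.mapPresheaf.naturality (homOfLE h).op) (tens L N U s t))).symm
  -- symmetry
  have hsymm : ∀ (x y : Γ(L, ⊤)) (t : Γ(N, ⊤)), F ⊤ x t • y = F ⊤ y t • x := fun x y t => by
    refine Groth.L21.Extend.eq_of_locally L _ _ fun z _ => ?_
    obtain ⟨W, e, hzW, he⟩ := Groth.L18.Frame.exists_frame hL z
    refine ⟨W, le_top, hzW, ?_⟩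
    show rs L le_top (F ⊤ x t • y) = rs L le_top (F ⊤ y t • x)
    obtain ⟨a, ha⟩ := he.exists_coeff le_rfl (rs L (le_top : W ≤ ⊤) x)
    obtain ⟨b, hb⟩ := he.exists_coeff le_rfl (rs L (le_top : W ≤ ⊤) y)
    rw [rs_self] at ha hb
    rw [rs_smul, rs_smul, hFr, hFr, ← ha, ← hb, hFl, hFl, ← mul_smul, ← mul_smul]
    congr 1
    ring
  -- the values generate the unit ideal
  choose s O hO hsf using exists_globalFrame hL
  choose t O' hO' htf using exists_globalFrame hN
  have hunit : ∀ z : X, z ∈ X.basicOpen (F ⊤ (s z) (t z)) := fun z => by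
    have hfr := Groth.L12.CurveFam.isFrame_map ε
      (isFrame_tens ((hsf z).mono (inf_le_left : O z ⊓ O' z ≤ O z)) ((htf z).mono (inf_le_right : O z ⊓ O' z ≤ O' z)))
    simp only [rs_rs] at hfr
    change IsFrame (Coh.structureModule X) (O z ⊓ O' z) (F (O z ⊓ O' z) _ _) at hfr
    rw [← hFr] at hfr
    obtain ⟨c, hc⟩ := hfr.exists_coeff le_rfl (show Γ(X, O z ⊓ O' z) from 1)
    rw [rs_self] at hc
    have hu : IsUnit (ro (le_top : O z ⊓ O' z ≤ ⊤) (F ⊤ (s z) (t z))) := by
      refine IsUnit.of_mul_eq_one c ?_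
      rw [mul_comm]; exact hc
    refine (X.mem_basicOpen _ z (show z ∈ (⊤ : X.Opens) from trivial)).2 ?_
    have := hu.map (X.presheaf.germ (O z ⊓ O' z) z ⟨hO z, hO' z⟩).hom
    rwa [show X.presheaf.germ (O z ⊓ O' z) z ⟨hO z, hO' z⟩ (ro le_top (F ⊤ (s z) (t z))) = _ from
      TopCat.Presheaf.germ_res_apply _ _ _ _ _] at this
  have hspan : Ideal.span (Set.range fun z => F ⊤ (s z) (t z)) = ⊤ := by
    rw [← (isAffineOpen_top X).iSup_basicOpen_eq_self_iff, eq_top_iff]
    intro z _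
    refine Opens.mem_iSup.2 ⟨⟨_, z, rfl⟩, hunit z⟩
  obtain ⟨c, hc⟩ := (Finsupp.mem_ideal_span_range_iff_exists_finsupp).1
    ((Ideal.eq_top_iff_one _).1 hspan)
  refine Groth.L15.PicSurj.invertible_of_forms (ι := c.support)
    (fun z => { toFun := fun x => c z.1 * F ⊤ x (t z.1)
                map_add' := fun x y => ?_
                map_smul' := fun r x => by rw [hFl, RingHom.id_apply, smul_eq_mul]; ring })
    (fun z => s z.1) (fun z x y => ?_) ?_
  · rw [← mul_add]
    congr 1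
    show ε.hom.app ⊤ (tens L N ⊤ (x + y) _) = _
    exact (congrArg (ε.hom.app ⊤) (Groth.L00.Tensor.ev_add₁
      (Groth.L00.Tensor.unit (MonoidalCategory.tensorObj (Groth.L00.Tensor.pre L) (Groth.L00.Tensor.pre N))) (op ⊤) x y _)).trans (map_add _ _ _)
  · show (c z.1 * F ⊤ x (t z.1)) • y = (c z.1 * F ⊤ y (t z.1)) • x
    rw [mul_smul, mul_smul, hsymm]
  · show ∑ z : c.support, c z.1 * F ⊤ (s z.1) (t z.1) = 1
    rw [Finset.sum_coe_sort c.support fun z => c z * F ⊤ (s z) (t z), ← hc]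
    rfl

/-- Invertible modules are trivial on affine schemes without Picard group. -/
theorem nonempty_iso_of_pic [IsAffine X] [Subsingleton (CommRing.Pic Γ(X, ⊤))] {L : X.Modules}
    (hL : PicF.IsInvertible L) : Nonempty (L ≅ Coh.structureModule X) := by
  haveI := invertible_sections hL
  obtain ⟨θ⟩ := Module.Invertible.free_iff_linearEquiv.1 (inferInstance : Module.Free Γ(X, ⊤) Γ(L, ⊤))
  refine Groth.L08.Cube.nonempty_iso_of_frame_top (isFrame_of_generates hL (m := θ.symm 1) fun t => ⟨θ t, ?_⟩)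
  rw [← map_smul, smul_eq_mul, mul_one, θ.symm_apply_apply]

/-- A frame over the localisation spreads to a basic open. -/
theorem exists_frame_basicOpen {B B' : CommRingCat.{u}} (T : Submonoid B) [Algebra B B'] [IsLocalization T B']
    (L : (Spec B).Modules) (hL : PicF.IsInvertible L) (g : Spec B' ⟶ Spec B)
    (hg : g = Spec.map (CommRingCat.ofHom (algebraMap B B'))) (σ : Γ((Scheme.Modules.pullback g).obj L, ⊤))
    (hσ : IsFrame _ ⊤ σ) :
    ∃ τ ∈ T, ∃ e : Γ(L, PrimeSpectrum.basicOpen τ), IsFrame L (PrimeSpectrum.basicOpen τ) e := by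
  classical
  choose t O hO htf using exists_globalFrame hL
  obtain ⟨K, hK⟩ := isCompact_univ.elim_finite_subcover (fun z => ((O z : (Spec B).Opens) : Set (Spec B)))
    (fun z => (O z).isOpen) fun z _ => Set.mem_iUnion.2 ⟨z, hO z⟩
  choose c hc using fun z : K => hσ.exists_coeff le_rfl (pull g L ⊤ (t z.1))
  simp only [rs_self] at hc
  let γ := (Scheme.ΓSpecIso B').commRingCatIsoToRingEquiv
  have hspan : Ideal.span (Set.range c) = ⊤ := by
    rw [← (isAffineOpen_top (Spec B')).iSup_basicOpen_eq_self_iff, eq_top_iff]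
    intro z' _
    obtain ⟨z, hzK, hzz⟩ := Set.mem_iUnion₂.1 (hK (Set.mem_univ (g z')))
    refine Opens.mem_iSup.2 ⟨⟨_, ⟨z, hzK⟩, rfl⟩, ?_⟩
    have h1 := (htf z).pullback g L
    rw [← pull_rs g L (le_top : O z ≤ ⊤), ← hc ⟨z, hzK⟩, rs_smul] at h1
    have hu := Groth.L18.Frame.isUnit_of_isFrame (hσ.mono le_top) h1
    refine ((Spec B').mem_basicOpen _ z' (show z' ∈ (⊤ : (Spec B').Opens) from trivial)).2 ?_
    have := hu.map ((Spec B').presheaf.germ (g ⁻¹ᵁ O z) z' hzz).hom
    exact (congrArg IsUnit (TopCat.Presheaf.germ_res_apply (Spec B').presheaf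
      (homOfLE (le_top : g ⁻¹ᵁ O z ≤ ⊤)) z' hzz (c ⟨z, hzK⟩))).mp this
  obtain ⟨d, hd⟩ := Ideal.mem_span_range_iff_exists_fun.1 ((Ideal.eq_top_iff_one _).1 hspan)
  obtain ⟨τ₀, hτ₀⟩ := IsLocalization.exist_integer_multiples T (Finset.univ : Finset K) fun z => γ (d z)
  choose b hb using fun z : K => hτ₀ z (Finset.mem_univ z)
  let ι₀ : B →+* Γ(Spec B, ⊤) := (Scheme.ΓSpecIso B).inv.hom
  have hι : ∀ r : B, g.app ⊤ (ι₀ r) = γ.symm (algebraMap B B' r) := fun r => by
    show g.appTop ((Scheme.ΓSpecIso B).inv r) = (Scheme.ΓSpecIso B').inv (algebraMap B B' r)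
    subst hg
    exact (congr($(Scheme.ΓSpecIso_inv_naturality (CommRingCat.ofHom (algebraMap B B'))) r)).symm
  let m : Γ(L, ⊤) := ∑ z : K, ι₀ (b z) • t z.1
  have hm : pull g L ⊤ m = γ.symm (algebraMap B B' τ₀) • σ := by
    show pull g L ⊤ (∑ z : K, ι₀ (b z) • t z.1) = _
    rw [show pull g L ⊤ (∑ z : K, ι₀ (b z) • t z.1) = ∑ z : K, pull g L ⊤ (ι₀ (b z) • t z.1) from map_sum _ _ _]
    simp only [pull_smul, hι, ← hc, ← mul_smul]
    rw [← Finset.sum_smul]
    congr 1
    calc ∑ z : K, γ.symm (algebraMap B B' (b z)) * c z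
        = ∑ z : K, γ.symm (algebraMap B B' τ₀) * (d z * c z) := Finset.sum_congr rfl fun z _ => by
          rw [show algebraMap B B' (b z) = algebraMap B B' τ₀ * γ (d z) from (hb z).trans (Algebra.smul_def _ _),
            map_mul, γ.symm_apply_apply, mul_assoc]
      _ = _ := by rw [← Finset.mul_sum, hd, mul_one]
  have hmf : IsFrame ((Scheme.Modules.pullback g).obj L) ⊤ (pull g L ⊤ m) :=
    hm ▸ hσ.smul_unit ((IsLocalization.map_units B' τ₀).map γ.symm)
  let W₀ : (Spec B).Opens := sSup {U | IsFrame L U (rs L le_top m)}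
  have hrange : ∀ z', g z' ∈ W₀ := fun z' => by
    obtain ⟨W, e, hzW, he⟩ := Groth.L18.Frame.exists_frame hL (g z')
    obtain ⟨a, ha⟩ := he.exists_coeff le_rfl (rs L le_top m)
    rw [rs_self] at ha
    have hu : IsUnit (g.app W a) := by
      refine Groth.L18.Frame.isUnit_of_isFrame (he.pullback g L) ?_
      rw [← pull_smul, ha, ← pull_rs g L]
      exact hmf.mono _
    have hza : g z' ∈ (Spec B).basicOpen a := by
      have := ((Spec B').mem_basicOpen (g.app W a) z' hzW).2 (hu.map _)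
      rwa [← Scheme.preimage_basicOpen] at this
    obtain ⟨U, hgU, hU⟩ := exists_frame_of_isUnit_germ he ha hza
    exact Opens.mem_sSup.2 ⟨U, hU, hgU⟩
  obtain ⟨J, hJ⟩ := (PrimeSpectrum.isClosed_iff_zeroLocus_ideal _).1 W₀.isOpen.isClosed_compl
  obtain ⟨τ, hτJ, hτT⟩ : ∃ τ, τ ∈ J ∧ τ ∈ T := by
    by_contra hcon
    push Not at hcon
    obtain ⟨P, hP, hJP, hd⟩ := Ideal.exists_le_prime_disjoint J T (Set.disjoint_left.2 fun x hx => hcon x hx)
    obtain ⟨z', hz'⟩ : (⟨P, hP⟩ : PrimeSpectrum B) ∈ Set.range (PrimeSpectrum.comap (algebraMap B B')) := by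
      rw [PrimeSpectrum.localization_comap_range B' T]
      exact hd.symm
    have : g z' ∈ (W₀ : Set (Spec B))ᶜ := by
      rw [hJ, show g z' = (⟨P, hP⟩ : PrimeSpectrum B) from (by subst hg; exact hz')]
      exact hJP
    exact this (hrange z')
  refine ⟨τ, hτT, rs L le_top m, ?_⟩
  have hle : (PrimeSpectrum.basicOpen τ : (Spec B).Opens) ≤ W₀ := fun z hz => by
    by_contra h
    have h' : z ∈ (W₀ : Set (Spec B))ᶜ := h
    rw [hJ] at h'
    exact hz (h' hτJ)
  refine Groth.L21.Extend.isGen_of_locally fun z hz => ?_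
  obtain ⟨U, hU, hzU⟩ := Opens.mem_sSup.1 (hle hz)
  refine ⟨PrimeSpectrum.basicOpen τ ⊓ U, inf_le_left, ⟨hz, hzU⟩, ?_⟩
  have := IsFrame.mono hU (inf_le_right : PrimeSpectrum.basicOpen τ ⊓ U ≤ U)
  rw [rs_rs] at this
  rw [Groth.L21.Extend.rs_rs]
  exact this

end Groth.L06.PicHomotopy
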