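import Groth.Agent.L06.PicHomotopy.Affine
import Mathlib.AlgebraicGeometry.AffineSpace
import Mathlib.AlgebraicGeometry.Stalk
import Mathlib.AlgebraicGeometry.PullbackCarrier
import Mathlib.Algebra.MvPolynomial.Nilpotent
import Mathlib.RingTheory.MvPolynomial.Localization

/-!
# Invertible modules on affine space over a reduced scheme

If an invertible module on `𝔸(n; X)` is trivial over the local rings of `X` and along the zero section,
it is trivial.
-/

set_option autoImplicit false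
set_option linter.style.haveILetI false
set_option backward.isDefEq.respectTransparency false
set_option backward.isDefEq.respectTransparency.types false

universe u

open CategoryTheory CategoryTheory.Limits AlgebraicGeometry TopologicalSpace Opposite
open Groth.L18.Frame (rs ro rs_rs rs_self rs_smul ro_ro ro_self ro_mul IsFrame pull pull_rs pull_smul)

noncomputable section

namespace Groth.L06.PicHomotopy

variable (n : Type u) {X : Scheme.{u}}

/-- The projection. -/
abbrev prA (X : Scheme.{u}) : 𝔸(n; X) ⟶ X := 𝔸(n; X) ↘ X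

/-- The zero section. -/
def zeroSec (X : Scheme.{u}) : X ⟶ 𝔸(n; X) := AffineSpace.homOfVector (𝟙 X) 0

theorem zeroSec_pr : zeroSec n X ≫ prA n X = 𝟙 X := AffineSpace.homOfVector_over _ _

theorem appLE_congr_hom {X Y : Scheme.{u}} {f g : X ⟶ Y} (e : f = g) {U : Y.Opens} {V : X.Opens}
    (h : V ≤ f ⁻¹ᵁ U) : f.appLE U V h = g.appLE U V (e ▸ h) := by
  subst e; rfl

section Chart

variable {U : X.Opens} (hU : IsAffineOpen U)

/-- The chart of affine space over an affine open. -/
def chart : Spec (CommRingCat.of (MvPolynomial n Γ(X, U))) ⟶ 𝔸(n; X) :=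
  (AffineSpace.SpecIso n Γ(X, U)).inv ≫ AffineSpace.map n hU.fromSpec

theorem isPullback_chart :
    IsPullback (chart n hU) (Spec.map (CommRingCat.ofHom (MvPolynomial.C : Γ(X, U) →+* MvPolynomial n Γ(X, U))))
      (prA n X) hU.fromSpec :=
  (AffineSpace.isPullback_map hU.fromSpec).of_iso (AffineSpace.SpecIso n Γ(X, U)) (Iso.refl _) (Iso.refl _)
    (Iso.refl _) (by simp [chart])
    (by rw [Iso.refl_hom, Category.comp_id, ← Iso.inv_comp_eq, AffineSpace.SpecIso_inv_over])
    (by simp) (by simp)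

instance isOpenImmersion_chart : IsOpenImmersion (chart n hU) :=
  MorphismProperty.of_isPullback (isPullback_chart n hU).flip (inferInstance : IsOpenImmersion hU.fromSpec)

theorem opensRange_chart : (chart n hU).opensRange = prA n X ⁻¹ᵁ U := by
  refine Opens.ext ?_
  show Set.range (chart n hU) = prA n X ⁻¹' U
  have h := isPullback_chart n hU
  rw [← h.isoPullback_hom_fst, Scheme.Hom.comp_base, TopCat.coe_comp,
    Set.range_comp, Set.range_eq_univ.2 h.isoPullback.hom.surjective, Set.image_univ,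
    Scheme.Pullback.range_fst]
  show prA n X ⁻¹' (Set.range hU.fromSpec) = _
  rw [hU.range_fromSpec]

theorem preimage_chart : chart n hU ⁻¹ᵁ (prA n X ⁻¹ᵁ U) = ⊤ := by
  rw [← opensRange_chart n hU, Scheme.Hom.preimage_opensRange]

theorem bijective_appLE_chart :
    Function.Bijective ((chart n hU).appLE (prA n X ⁻¹ᵁ U) ⊤ (preimage_chart n hU).ge) := by
  haveI : IsIso ((chart n hU).app (prA n X ⁻¹ᵁ U)) := Scheme.Hom.isIso_app _ _ (opensRange_chart n hU).ge
  haveI : IsIso (homOfLE (preimage_chart n hU).ge) := ⟨homOfLE (preimage_chart n hU).le, rfl, rfl⟩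
  rw [Scheme.Hom.appLE]
  exact ConcreteCategory.bijective_of_isIso _

theorem app_appLE_chart (r : Γ(X, U)) :
    (chart n hU).appLE (prA n X ⁻¹ᵁ U) ⊤ (preimage_chart n hU).ge ((prA n X).app U r) =
      (Scheme.ΓSpecIso _).inv (MvPolynomial.C (σ := n) r) := by
  have h0 : hU.fromSpec.appLE U ⊤ hU.fromSpec_preimage_self.ge = (Scheme.ΓSpecIso Γ(X, U)).inv := by
    rw [Scheme.Hom.appLE, hU.fromSpec_app_self, Category.assoc, ← Functor.map_comp]
    exact (congrArg (_ ≫ ·) ((Spec Γ(X, U)).presheaf.map_id _)).trans (Category.comp_id _)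
  have h1 : (prA n X).app U ≫ (chart n hU).appLE (prA n X ⁻¹ᵁ U) ⊤ (preimage_chart n hU).ge =
      (chart n hU ≫ prA n X).appLE U ⊤ (preimage_chart n hU).ge := by
    rw [Scheme.Hom.comp_appLE]
  have key : (prA n X).app U ≫ (chart n hU).appLE (prA n X ⁻¹ᵁ U) ⊤ (preimage_chart n hU).ge =
      CommRingCat.ofHom (MvPolynomial.C (σ := n)) ≫ (Scheme.ΓSpecIso _).inv := by
    rw [h1, appLE_congr_hom (isPullback_chart n hU).w]
    rw [← Scheme.Hom.appLE_comp_appLE _ _ U ⊤ ⊤ hU.fromSpec_preimage_self.ge le_top, h0,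
      Scheme.ΓSpecIso_inv_naturality]
    congr 1
  exact congr($key r)

theorem image_chart_basicOpen (f : Γ(X, U)) :
    chart n hU ''ᵁ (PrimeSpectrum.basicOpen (MvPolynomial.C (σ := n) f)) = prA n X ⁻¹ᵁ X.basicOpen f := by
  have hsq := (isPullback_chart n hU).w
  have hval : ∀ w, prA n X (chart n hU w) =
      hU.fromSpec (Spec.map (CommRingCat.ofHom (MvPolynomial.C (σ := n))) w) := fun w => by
    rw [← Scheme.Hom.comp_apply, hsq]; rfl
  refine Opens.ext (Set.ext fun z => ⟨?_, fun hz => ?_⟩)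
  · rintro ⟨w, hw, rfl⟩
    show prA n X (chart n hU w) ∈ X.basicOpen f
    rw [hval, ← hU.fromSpec_image_basicOpen]
    exact ⟨_, hw, rfl⟩
  · obtain ⟨w, rfl⟩ : z ∈ Set.range (chart n hU) := by
      show z ∈ (chart n hU).opensRange
      rw [opensRange_chart]
      exact X.basicOpen_le f hz
    refine ⟨w, ?_, rfl⟩
    have hz' : prA n X (chart n hU w) ∈ X.basicOpen f := hz
    rw [hval, ← hU.fromSpec_image_basicOpen] at hz'
    obtain ⟨v, hv, hvw⟩ := hz'
    rw [hU.fromSpec.isOpenEmbedding.injective hvw] at hv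
    exact hv

end Chart

/-- A unit on the preimage of an open which is one on the zero section is one. -/
theorem eq_one_of_isUnit [IsReduced X] {V : X.Opens} {a : Γ(𝔸(n; X), prA n X ⁻¹ᵁ V)} (ha : IsUnit a)
    (h1 : (zeroSec n X).app (prA n X ⁻¹ᵁ V) a = 1) : a = 1 := by
  refine Groth.L21.Extend.eq_of_locally (Coh.structureModule _) (show Γ(Coh.structureModule 𝔸(n; X), _) from a)
    (show Γ(Coh.structureModule 𝔸(n; X), _) from (1 : Γ(𝔸(n; X), _))) fun z hz => ?_
  obtain ⟨U, hU, hxU, hUV⟩ := exists_isAffineOpen_mem_and_subset (X := X) (x := prA n X z) (U := V) hz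
  refine ⟨prA n X ⁻¹ᵁ U, (prA n X).preimage_mono hUV, hxU, ?_⟩
  show ro ((prA n X).preimage_mono hUV) a = ro ((prA n X).preimage_mono hUV) 1
  set b := ro ((prA n X).preimage_mono hUV) a with hb
  have hu : IsUnit ((Scheme.ΓSpecIso _).hom ((chart n hU).appLE (prA n X ⁻¹ᵁ U) ⊤ (preimage_chart n hU).ge b)) :=
    (((ha.map _).map _).map _)
  obtain ⟨r, -, hr⟩ := MvPolynomial.isUnit_iff_eq_C_of_isReduced.1 hu
  have hb' : b = (prA n X).app U r := by
    apply (bijective_appLE_chart n hU).1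
    rw [app_appLE_chart n hU r, ← hr]
    exact (congr($((Scheme.ΓSpecIso _).hom_inv_id) _)).symm
  have hs : ∀ r : Γ(X, U), (zeroSec n X).app (prA n X ⁻¹ᵁ U) ((prA n X).app U r) =
      ro (le_of_eq (by rw [← Scheme.Hom.comp_preimage, zeroSec_pr]; rfl)) r := fun r => by
    have := Scheme.Hom.congr_app (zeroSec_pr n (X := X)) U
    exact congr($this r)
  have h2 : (zeroSec n X).app (prA n X ⁻¹ᵁ U) b = 1 := by
    have h3 := congr($((zeroSec n X).naturality (homOfLE ((prA n X).preimage_mono hUV)).op) a)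
    refine h3.trans ?_
    show X.presheaf.map _ ((zeroSec n X).app (prA n X ⁻¹ᵁ V) a) = 1
    rw [h1, map_one]
  rw [hb', hs] at h2
  have hr1 : r = 1 := by
    have h4 := congrArg (ro (le_of_eq (by rw [← Scheme.Hom.comp_preimage, zeroSec_pr]; rfl) :
      U ≤ zeroSec n X ⁻¹ᵁ (prA n X ⁻¹ᵁ U))) h2
    rwa [ro_ro, ro_self, ro, map_one] at h4
  rw [hb', hr1, map_one, ro, map_one]

/-- Local triviality over the base from triviality over the local rings. -/
theorem exists_frame_over {L : (𝔸(n; X)).Modules} (hL : PicF.IsInvertible L) (x : X)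
    (htriv : ∀ M : (𝔸(n; Spec (X.presheaf.stalk x))).Modules, PicF.IsInvertible M →
      Nonempty (M ≅ Coh.structureModule 𝔸(n; Spec (X.presheaf.stalk x)))) :
    ∃ (V : X.Opens) (e : Γ(L, prA n X ⁻¹ᵁ V)), x ∈ V ∧ IsFrame L (prA n X ⁻¹ᵁ V) e := by
  obtain ⟨U, hU, hxU, -⟩ := exists_isAffineOpen_mem_and_subset (X := X) (x := x) (U := ⊤) trivial
  let R' := X.presheaf.stalk x
  letI : Algebra Γ(X, U) R' := (X.presheaf.germ U x hxU).hom.toAlgebra
  haveI : IsLocalization.AtPrime R' (hU.primeIdealOf ⟨x, hxU⟩).asIdeal := hU.isLocalization_stalk ⟨x, hxU⟩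
  letI : Algebra (MvPolynomial n Γ(X, U)) (MvPolynomial n R') := MvPolynomial.algebraMvPolynomial
  let T : Submonoid (MvPolynomial n Γ(X, U)) :=
    (hU.primeIdealOf ⟨x, hxU⟩).asIdeal.primeCompl.map (MvPolynomial.C (σ := n))
  haveI : IsLocalization T (MvPolynomial n R') := MvPolynomial.isLocalization _ _
  let g : Spec (CommRingCat.of (MvPolynomial n R')) ⟶ Spec (CommRingCat.of (MvPolynomial n Γ(X, U))) :=
    Spec.map (CommRingCat.ofHom (MvPolynomial.map (X.presheaf.germ U x hxU).hom))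
  have hge : g ≫ chart n hU = (AffineSpace.SpecIso n R').inv ≫ AffineSpace.map n (hU.fromSpecStalk hxU) := by
    rw [IsAffineOpen.fromSpecStalk, AffineSpace.map_comp, AffineSpace.map_SpecMap]
    simp [g, chart]
  let L₀ : (Spec (CommRingCat.of (MvPolynomial n Γ(X, U)))).Modules := (Scheme.Modules.pullback (chart n hU)).obj L
  have hL₀ : PicF.IsInvertible L₀ := Groth.L18.Ample.isInvertible_pullback _ hL
  obtain ⟨θ⟩ := htriv ((Scheme.Modules.pullback (AffineSpace.map n (hU.fromSpecStalk hxU))).obj L)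
    (Groth.L18.Ample.isInvertible_pullback _ hL)
  let ψ : Coh.structureModule _ ≅ (Scheme.Modules.pullback g).obj L₀ :=
    (Groth.L29.LocFree.pullbackUnitIso (AffineSpace.SpecIso n R').inv).symm ≪≫
      (Scheme.Modules.pullback (AffineSpace.SpecIso n R').inv).mapIso θ.symm ≪≫
      (Scheme.Modules.pullbackComp _ _).app L ≪≫ (Scheme.Modules.pullbackCongr hge.symm).app L ≪≫
      ((Scheme.Modules.pullbackComp g (chart n hU)).app L).symm
  have hone : IsFrame (Coh.structureModule (Spec (CommRingCat.of (MvPolynomial n R')))) ⊤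
      (1 : Γ(Spec (CommRingCat.of (MvPolynomial n R')), ⊤)) := fun V h => by
    refine (Eq.mpr (congrArg Function.Bijective (funext fun c => ?_)) Function.bijective_id)
    show c * ro h 1 = c
    rw [ro, map_one, mul_one]
  obtain ⟨τ, ⟨f, hf, rfl⟩, e, he⟩ := exists_frame_basicOpen (B := CommRingCat.of (MvPolynomial n Γ(X, U)))
    (B' := CommRingCat.of (MvPolynomial n R')) T L₀ hL₀ g
    (by simp only [g]; rfl) _ (Groth.L12.CurveFam.isFrame_map ψ hone)
  let ρ : L₀ ≅ L.restrict (chart n hU) := ((Scheme.Modules.restrictFunctorIsoPullback (chart n hU)).app L).symm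
  have h2 := Groth.L21.Extend.exists_isGen_image (chart n hU) (M := L) (Groth.L12.CurveFam.isFrame_map ρ he)
  refine ⟨X.basicOpen f, rs L (image_chart_basicOpen n hU f).ge _, ?_, IsFrame.mono h2 (image_chart_basicOpen n hU f).ge⟩
  have hxf : (hU.primeIdealOf ⟨x, hxU⟩) ∈ PrimeSpectrum.basicOpen f := hf
  rw [← hU.fromSpec_image_basicOpen]
  exact ⟨_, hxf, hU.fromSpec_primeIdealOf ⟨x, hxU⟩⟩

/-- An invertible module on affine space over a reduced scheme which is trivial over the local rings and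
along the zero section is trivial. -/
theorem nonempty_iso_structureModule [IsReduced X] {L : (𝔸(n; X)).Modules} (hL : PicF.IsInvertible L)
    (htriv : ∀ (x : X) (M : (𝔸(n; Spec (X.presheaf.stalk x))).Modules), PicF.IsInvertible M →
      Nonempty (M ≅ Coh.structureModule 𝔸(n; Spec (X.presheaf.stalk x))))
    (hsec : Nonempty ((Scheme.Modules.pullback (zeroSec n X)).obj L ≅ Coh.structureModule X)) :
    Nonempty (L ≅ Coh.structureModule 𝔸(n; X)) := by
  obtain ⟨ψ⟩ := hsec
  have hone : IsFrame (Coh.structureModule X) ⊤ (1 : Γ(X, ⊤)) := fun V h => by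
    refine (Eq.mpr (congrArg Function.Bijective (funext fun c => ?_)) Function.bijective_id)
    show c * ro h 1 = c
    rw [ro, map_one, mul_one]
  set sL := (Scheme.Modules.pullback (zeroSec n X)).obj L with hsL
  obtain ⟨σ, hσ⟩ : ∃ σ : Γ(sL, ⊤), IsFrame sL ⊤ σ := ⟨_, Groth.L12.CurveFam.isFrame_map ψ.symm hone⟩
  have hloc : ∀ x : X, ∃ (V : X.Opens) (e : Γ(L, prA n X ⁻¹ᵁ V)), x ∈ V ∧ IsFrame L (prA n X ⁻¹ᵁ V) e ∧
      pull (zeroSec n X) L (prA n X ⁻¹ᵁ V) e = rs sL le_top σ := fun x => by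
    obtain ⟨V, e, hxV, he⟩ := exists_frame_over n hL x (htriv x)
    obtain ⟨a, ha⟩ := hσ.exists_coeff le_top (pull (zeroSec n X) L (prA n X ⁻¹ᵁ V) e)
    have hau : IsUnit a := Groth.L18.Frame.isUnit_of_isFrame (hσ.mono le_top)
      (ha ▸ IsFrame.pullback (zeroSec n X) L he)
    have hVle : V ≤ zeroSec n X ⁻¹ᵁ (prA n X ⁻¹ᵁ V) := by rw [← Scheme.Hom.comp_preimage, zeroSec_pr]; rfl
    have hleV : zeroSec n X ⁻¹ᵁ (prA n X ⁻¹ᵁ V) ≤ V := by rw [← Scheme.Hom.comp_preimage, zeroSec_pr]; rfl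
    refine ⟨V, (prA n X).app V (ro hVle (↑hau.unit⁻¹ : Γ(X, zeroSec n X ⁻¹ᵁ (prA n X ⁻¹ᵁ V)))) • e, hxV,
      he.smul_unit (((Units.isUnit _).map _).map _), ?_⟩
    have hs : ∀ r : Γ(X, V), (zeroSec n X).app (prA n X ⁻¹ᵁ V) ((prA n X).app V r) = ro hleV r := fun r => by
      have := Scheme.Hom.congr_app (zeroSec_pr n (X := X)) V
      exact congr($this r)
    rw [pull_smul, hs, ro_ro, ro_self, ← ha, ← mul_smul, IsUnit.val_inv_mul, one_smul]
  choose V e hxV he hpe using hloc
  obtain ⟨t, ht⟩ := Groth.L21.Extend.exists_glue L (fun x : X => prA n X ⁻¹ᵁ V x) ⊤ (fun _ => le_top)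
    (fun z _ => ⟨prA n X z, hxV (prA n X z)⟩) e fun i j => by
      let W : (𝔸(n; X)).Opens := prA n X ⁻¹ᵁ (V i ⊓ V j)
      have hi : W ≤ prA n X ⁻¹ᵁ V i := (prA n X).preimage_mono inf_le_left
      have hj : W ≤ prA n X ⁻¹ᵁ V j := (prA n X).preimage_mono inf_le_right
      show rs L hi (e i) = rs L hj (e j)
      obtain ⟨c, hc⟩ := (he i).exists_coeff hi (rs L hj (e j))
      have hcu : IsUnit c := Groth.L18.Frame.isUnit_of_isFrame ((he i).mono hi) (hc ▸ (he j).mono hj)
      have hc1 : c = 1 := by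
        refine eq_one_of_isUnit n hcu (hσ.inj le_top ?_)
        have h1 := congrArg (pull (zeroSec n X) L W) hc
        rw [pull_smul, ← pull_rs _ _ hi, ← pull_rs _ _ hj, hpe, hpe, rs_rs, rs_rs] at h1
        rw [one_smul]
        exact h1
      rw [← hc, hc1, one_smul]
  refine Groth.L08.Cube.nonempty_iso_of_frame_top (σ := t) (IsFrame.of_cover (fun x : X => prA n X ⁻¹ᵁ V x)
    (fun _ => le_top) (fun z _ => Opens.mem_iSup.2 ⟨prA n X z, hxV (prA n X z)⟩) fun x => ?_)
  have : rs L (le_top : prA n X ⁻¹ᵁ V x ≤ ⊤) t = e x := ht x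
  rw [this]
  exact he x

end Groth.L06.PicHomotopy
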