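import Groth.Agent.L06.PicHomotopy.Main
import Groth.Agent.L01.Traverso
import Groth.Agent.L26.AbDual.Classes
import Mathlib.Algebra.MvPolynomial.Equiv

/-!
# `Pic X ≅ Pic (X × A¹)` for reduced seminormal schemes
-/

set_option autoImplicit false
set_option linter.style.haveILetI false
set_option backward.isDefEq.respectTransparency false
set_option backward.isDefEq.respectTransparency.types false

universe u

open CategoryTheory CategoryTheory.Limits AlgebraicGeometry Opposite Polynomial
open Groth.Agent.AbDualLib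

noncomputable section

namespace Groth.L06.PicHomotopy

theorem subsingleton_pic_of_ringEquiv {A B : Type u} [CommRing A] [CommRing B] (e : A ≃+* B)
    [Subsingleton (CommRing.Pic A)] : Subsingleton (CommRing.Pic B) := by
  have hx : ∀ z, CommRing.Pic.mapRingHom e.toRingHom (CommRing.Pic.mapRingHom e.symm.toRingHom z) = z := fun z => by
    rw [CommRing.Pic.mapRingHom_mapRingHom, show e.toRingHom.comp e.symm.toRingHom = RingHom.id _ from
      RingHom.ext e.apply_symm_apply, CommRing.Pic.mapRingHom_id_apply]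
  refine ⟨fun x y => ?_⟩
  rw [← hx x, ← hx y, Subsingleton.elim (CommRing.Pic.mapRingHom e.symm.toRingHom x)]

/-- Traverso for the affine line over a local seminormal ring. -/
theorem nonempty_iso_line (R : CommRingCat.{u}) [IsLocalRing R] (hR : HTop.IsSeminormalRing R)
    {M : (𝔸(PUnit.{u + 1}; Spec R)).Modules} (hM : PicF.IsInvertible M) :
    Nonempty (M ≅ Coh.structureModule 𝔸(PUnit.{u + 1}; Spec R)) := by
  haveI : Subsingleton (CommRing.Pic (Polynomial R)) :=
    CommRing.Pic.subsingleton_iff.2 fun N _ _ _ => L01.Traverso.free_of_invertible hR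
  let e : Polynomial R ≃+* Γ(𝔸(PUnit.{u + 1}; Spec R), ⊤) :=
    (MvPolynomial.pUnitAlgEquiv.{u, u} R).symm.toRingEquiv.trans
      ((Scheme.ΓSpecIso (CommRingCat.of (MvPolynomial PUnit.{u + 1} R))).symm ≪≫
        Scheme.Γ.mapIso (AffineSpace.SpecIso PUnit.{u + 1} R).op).commRingCatIsoToRingEquiv
  haveI := subsingleton_pic_of_ringEquiv e
  exact nonempty_iso_of_pic hM

variable {X : Scheme.{u}} [IsReduced X]

/-- Seminormal local rings. -/
theorem isSeminormalRing_stalk (hX : HTop.IsSeminormal X) (x : X) :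
    HTop.IsSeminormalRing (X.presheaf.stalk x) := by
  obtain ⟨⟨U, hU⟩, hxU, hA⟩ := hX x
  letI : Algebra Γ(X, U) (X.presheaf.stalk x) := (X.presheaf.germ U x hxU).hom.toAlgebra
  haveI : IsLocalization.AtPrime (X.presheaf.stalk x) (hU.primeIdealOf ⟨x, hxU⟩).asIdeal :=
    hU.isLocalization_stalk ⟨x, hxU⟩
  exact Groth.L28.AWN.isSeminormalRing_localization (hU.primeIdealOf ⟨x, hxU⟩).asIdeal.primeCompl hA

/-- Invertible classes on the affine line come from the base. -/
theorem bijOn_pullCl_line (hX : HTop.IsSeminormal X) :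
    Set.BijOn (PicF.pullCl (prA PUnit.{u + 1} X)) {c | PicF.IsInvertibleCl c} {c | PicF.IsInvertibleCl c} := by
  have hsec : ∀ c, PicF.pullCl (zeroSec PUnit.{u + 1} X) (PicF.pullCl (prA PUnit.{u + 1} X) c) = c := fun c => by
    rw [← PicLoc.pullCl_comp, zeroSec_pr, PicLoc.pullCl_id]
  refine ⟨fun c hc => PicLoc.isInvertibleCl_pullCl _ hc, fun c _ d _ h => by rw [← hsec c, ← hsec d, h], ?_⟩
  rintro c ⟨L, rfl, hL⟩
  let M := (Scheme.Modules.pullback (zeroSec PUnit.{u + 1} X)).obj L
  have hM : PicF.IsInvertible M := Groth.L18.Ample.isInvertible_pullback _ hL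
  obtain ⟨N, hN, ⟨ε⟩⟩ := Groth.L08.Cube.exists_inverse hM
  have hMN : PicGrp.mulCl (PicF.cl M) (PicF.cl N) = oneCl X := cl_congr ε
  let L' := CohB1.tensorMod L ((Scheme.Modules.pullback (prA PUnit.{u + 1} X)).obj N)
  have hL' : PicF.IsInvertible L' :=
    Groth.L18.GenLoc.isInvertible_tensor hL (Groth.L18.Ample.isInvertible_pullback _ hN)
  have htriv := nonempty_iso_structureModule PUnit.{u + 1} hL'
    (fun x _ hM' => nonempty_iso_line _ (isSeminormalRing_stalk hX x) hM') ((PicGrp.cl_eq_cl_iff _ _).1 (by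
      show PicF.pullCl (zeroSec PUnit.{u + 1} X)
        (PicGrp.mulCl (PicF.cl L) (PicF.pullCl (prA PUnit.{u + 1} X) (PicF.cl N))) = oneCl X
      rw [pullCl_mulCl, hsec]
      exact hMN))
  have h1 : PicGrp.mulCl (PicF.cl L) (PicF.pullCl (prA PUnit.{u + 1} X) (PicF.cl N)) = oneCl _ :=
    cl_congr htriv.some
  refine ⟨PicF.cl M, ⟨M, rfl, hM⟩, ?_⟩
  have h2 := congrArg (fun c => PicGrp.mulCl c (PicF.pullCl (prA PUnit.{u + 1} X) (PicF.cl M))) h1
  simp only [mulCl_assoc, ← pullCl_mulCl, oneCl_mul] at h2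
  rw [mulCl_comm (PicF.cl N), hMN, pullCl_oneCl, mul_oneCl] at h2
  exact h2.symm

end Groth.L06.PicHomotopy
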